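import Cfsg.Agent.Lib.InvE.Fusion
import Cfsg.Agent.Lib.Twisted.D4S
import Cfsg.Agent.Lib.Twisted.D4O

/-!
The positive part of the Chevalley group of type D₄ in characteristic two, in coordinates adapted to the triality.
-/

set_option autoImplicit false
set_option linter.unusedSectionVars false
set_option linter.unusedVariables false
set_option linter.ambiguousOpen false
set_option linter.unusedSimpArgs false
set_option maxHeartbeats 1000000

namespace Cfsg.Agent.Lib.InvD4

open scoped MatrixGroups Matrix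
open Cfsg Lie ChevalleyDatum
open Cfsg.Agent.Lib.Chev
open Tables Tables2 Tables3 Raise Basic AxBasic Torus Products Products2 Mono1 Mono2 Mono3
open Cfsg.Agent.Lib.InvE.Red

variable {K : Type*} [Field K] [CharP K 2] (ax : Ax chevD4 K)

local notation "x" => xG ax

lemma rS {r s k : ℕ} (hA : AddP chevD4 r s k) (hr : r < chevD4.nroots) (hs : s < chevD4.nroots) (h1 : s ≠ r) (h3 : s ≠ chevD4.neg r)
    (u t : K) (g : GL chevD4.Idx K) : x s u * (x r t * g) = x r t * (x s u * (x k (t * u) * g)) := by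
  rw [← mul_assoc, comm_sum ax hA hr hs h1 h3 t u]
  group

lemma rN {r s : ℕ} (he : chevD4.commTerms r s = []) (hr : r < chevD4.nroots) (hs : s < chevD4.nroots) (h1 : s ≠ r) (h3 : s ≠ chevD4.neg r)
    (u t : K) (g : GL chevD4.Idx K) : x s u * (x r t * g) = x r t * (x s u * g) := by
  rw [← mul_assoc, comm_nil ax he hr hs h1 h3 t u]
  group

lemma rM (r : ℕ) (a b : K) (g : GL chevD4.Idx K) : x r a * (x r b * g) = x r (a + b) * g := by
  rw [← mul_assoc, xG_add]

lemma m18 (a b : K) (g : GL chevD4.Idx K) : x 18 a * (x 18 b * g) = x 18 (a + b) * g := rM ax 18 a b g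
lemma m13 (a b : K) (g : GL chevD4.Idx K) : x 13 a * (x 13 b * g) = x 13 (a + b) * g := rM ax 13 a b g
lemma m12 (a b : K) (g : GL chevD4.Idx K) : x 12 a * (x 12 b * g) = x 12 (a + b) * g := rM ax 12 a b g
lemma m14 (a b : K) (g : GL chevD4.Idx K) : x 14 a * (x 14 b * g) = x 14 (a + b) * g := rM ax 14 a b g
lemma m19 (a b : K) (g : GL chevD4.Idx K) : x 19 a * (x 19 b * g) = x 19 (a + b) * g := rM ax 19 a b g
lemma m16 (a b : K) (g : GL chevD4.Idx K) : x 16 a * (x 16 b * g) = x 16 (a + b) * g := rM ax 16 a b g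
lemma m15 (a b : K) (g : GL chevD4.Idx K) : x 15 a * (x 15 b * g) = x 15 (a + b) * g := rM ax 15 a b g
lemma m21 (a b : K) (g : GL chevD4.Idx K) : x 21 a * (x 21 b * g) = x 21 (a + b) * g := rM ax 21 a b g
lemma m17 (a b : K) (g : GL chevD4.Idx K) : x 17 a * (x 17 b * g) = x 17 (a + b) * g := rM ax 17 a b g
lemma m20 (a b : K) (g : GL chevD4.Idx K) : x 20 a * (x 20 b * g) = x 20 (a + b) * g := rM ax 20 a b g
lemma m22 (a b : K) (g : GL chevD4.Idx K) : x 22 a * (x 22 b * g) = x 22 (a + b) * g := rM ax 22 a b g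
lemma m23 (a b : K) (g : GL chevD4.Idx K) : x 23 a * (x 23 b * g) = x 23 (a + b) * g := rM ax 23 a b g

lemma L_13_18 (u t : K) (g : GL chevD4.Idx K) : x 13 u * (x 18 t * g) = x 18 t * (x 13 u * g) :=
  rN ax (by decide +kernel) (by decide) (by decide) (by decide) (by decide) u t g
lemma L_12_18 (u t : K) (g : GL chevD4.Idx K) : x 12 u * (x 18 t * g) = x 18 t * (x 12 u * g) :=
  rN ax (by decide +kernel) (by decide) (by decide) (by decide) (by decide) u t g
lemma L_14_18 (u t : K) (g : GL chevD4.Idx K) : x 14 u * (x 18 t * g) = x 18 t * (x 14 u * (x 19 (t * u) * g)) :=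
  rS ax ⟨-1, by decide +kernel, by decide +kernel⟩ (by decide) (by decide) (by decide) (by decide) u t g
lemma L_19_18 (u t : K) (g : GL chevD4.Idx K) : x 19 u * (x 18 t * g) = x 18 t * (x 19 u * g) :=
  rN ax (by decide +kernel) (by decide) (by decide) (by decide) (by decide) u t g
lemma L_16_18 (u t : K) (g : GL chevD4.Idx K) : x 16 u * (x 18 t * g) = x 18 t * (x 16 u * (x 21 (t * u) * g)) :=
  rS ax ⟨-1, by decide +kernel, by decide +kernel⟩ (by decide) (by decide) (by decide) (by decide) u t g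
lemma L_15_18 (u t : K) (g : GL chevD4.Idx K) : x 15 u * (x 18 t * g) = x 18 t * (x 15 u * (x 20 (t * u) * g)) :=
  rS ax ⟨-1, by decide +kernel, by decide +kernel⟩ (by decide) (by decide) (by decide) (by decide) u t g
lemma L_21_18 (u t : K) (g : GL chevD4.Idx K) : x 21 u * (x 18 t * g) = x 18 t * (x 21 u * g) :=
  rN ax (by decide +kernel) (by decide) (by decide) (by decide) (by decide) u t g
lemma L_17_18 (u t : K) (g : GL chevD4.Idx K) : x 17 u * (x 18 t * g) = x 18 t * (x 17 u * (x 22 (t * u) * g)) :=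
  rS ax ⟨-1, by decide +kernel, by decide +kernel⟩ (by decide) (by decide) (by decide) (by decide) u t g
lemma L_20_18 (u t : K) (g : GL chevD4.Idx K) : x 20 u * (x 18 t * g) = x 18 t * (x 20 u * g) :=
  rN ax (by decide +kernel) (by decide) (by decide) (by decide) (by decide) u t g
lemma L_22_18 (u t : K) (g : GL chevD4.Idx K) : x 22 u * (x 18 t * g) = x 18 t * (x 22 u * g) :=
  rN ax (by decide +kernel) (by decide) (by decide) (by decide) (by decide) u t g
lemma L_23_18 (u t : K) (g : GL chevD4.Idx K) : x 23 u * (x 18 t * g) = x 18 t * (x 23 u * g) :=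
  rN ax (by decide +kernel) (by decide) (by decide) (by decide) (by decide) u t g
lemma L_12_13 (u t : K) (g : GL chevD4.Idx K) : x 12 u * (x 13 t * g) = x 13 t * (x 12 u * g) :=
  rN ax (by decide +kernel) (by decide) (by decide) (by decide) (by decide) u t g
lemma L_14_13 (u t : K) (g : GL chevD4.Idx K) : x 14 u * (x 13 t * g) = x 13 t * (x 14 u * (x 16 (t * u) * g)) :=
  rS ax ⟨1, by decide +kernel, by decide +kernel⟩ (by decide) (by decide) (by decide) (by decide) u t g
lemma L_19_13 (u t : K) (g : GL chevD4.Idx K) : x 19 u * (x 13 t * g) = x 13 t * (x 19 u * (x 21 (t * u) * g)) :=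
  rS ax ⟨1, by decide +kernel, by decide +kernel⟩ (by decide) (by decide) (by decide) (by decide) u t g
lemma L_16_13 (u t : K) (g : GL chevD4.Idx K) : x 16 u * (x 13 t * g) = x 13 t * (x 16 u * g) :=
  rN ax (by decide +kernel) (by decide) (by decide) (by decide) (by decide) u t g
lemma L_15_13 (u t : K) (g : GL chevD4.Idx K) : x 15 u * (x 13 t * g) = x 13 t * (x 15 u * (x 17 (t * u) * g)) :=
  rS ax ⟨1, by decide +kernel, by decide +kernel⟩ (by decide) (by decide) (by decide) (by decide) u t g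
lemma L_21_13 (u t : K) (g : GL chevD4.Idx K) : x 21 u * (x 13 t * g) = x 13 t * (x 21 u * g) :=
  rN ax (by decide +kernel) (by decide) (by decide) (by decide) (by decide) u t g
lemma L_17_13 (u t : K) (g : GL chevD4.Idx K) : x 17 u * (x 13 t * g) = x 13 t * (x 17 u * g) :=
  rN ax (by decide +kernel) (by decide) (by decide) (by decide) (by decide) u t g
lemma L_20_13 (u t : K) (g : GL chevD4.Idx K) : x 20 u * (x 13 t * g) = x 13 t * (x 20 u * (x 22 (t * u) * g)) :=
  rS ax ⟨1, by decide +kernel, by decide +kernel⟩ (by decide) (by decide) (by decide) (by decide) u t g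
lemma L_22_13 (u t : K) (g : GL chevD4.Idx K) : x 22 u * (x 13 t * g) = x 13 t * (x 22 u * g) :=
  rN ax (by decide +kernel) (by decide) (by decide) (by decide) (by decide) u t g
lemma L_23_13 (u t : K) (g : GL chevD4.Idx K) : x 23 u * (x 13 t * g) = x 13 t * (x 23 u * g) :=
  rN ax (by decide +kernel) (by decide) (by decide) (by decide) (by decide) u t g
lemma L_14_12 (u t : K) (g : GL chevD4.Idx K) : x 14 u * (x 12 t * g) = x 12 t * (x 14 u * (x 15 (t * u) * g)) :=
  rS ax ⟨1, by decide +kernel, by decide +kernel⟩ (by decide) (by decide) (by decide) (by decide) u t g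
lemma L_19_12 (u t : K) (g : GL chevD4.Idx K) : x 19 u * (x 12 t * g) = x 12 t * (x 19 u * (x 20 (t * u) * g)) :=
  rS ax ⟨1, by decide +kernel, by decide +kernel⟩ (by decide) (by decide) (by decide) (by decide) u t g
lemma L_16_12 (u t : K) (g : GL chevD4.Idx K) : x 16 u * (x 12 t * g) = x 12 t * (x 16 u * (x 17 (t * u) * g)) :=
  rS ax ⟨1, by decide +kernel, by decide +kernel⟩ (by decide) (by decide) (by decide) (by decide) u t g
lemma L_15_12 (u t : K) (g : GL chevD4.Idx K) : x 15 u * (x 12 t * g) = x 12 t * (x 15 u * g) :=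
  rN ax (by decide +kernel) (by decide) (by decide) (by decide) (by decide) u t g
lemma L_21_12 (u t : K) (g : GL chevD4.Idx K) : x 21 u * (x 12 t * g) = x 12 t * (x 21 u * (x 22 (t * u) * g)) :=
  rS ax ⟨1, by decide +kernel, by decide +kernel⟩ (by decide) (by decide) (by decide) (by decide) u t g
lemma L_17_12 (u t : K) (g : GL chevD4.Idx K) : x 17 u * (x 12 t * g) = x 12 t * (x 17 u * g) :=
  rN ax (by decide +kernel) (by decide) (by decide) (by decide) (by decide) u t g
lemma L_20_12 (u t : K) (g : GL chevD4.Idx K) : x 20 u * (x 12 t * g) = x 12 t * (x 20 u * g) :=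
  rN ax (by decide +kernel) (by decide) (by decide) (by decide) (by decide) u t g
lemma L_22_12 (u t : K) (g : GL chevD4.Idx K) : x 22 u * (x 12 t * g) = x 12 t * (x 22 u * g) :=
  rN ax (by decide +kernel) (by decide) (by decide) (by decide) (by decide) u t g
lemma L_23_12 (u t : K) (g : GL chevD4.Idx K) : x 23 u * (x 12 t * g) = x 12 t * (x 23 u * g) :=
  rN ax (by decide +kernel) (by decide) (by decide) (by decide) (by decide) u t g
lemma L_19_14 (u t : K) (g : GL chevD4.Idx K) : x 19 u * (x 14 t * g) = x 14 t * (x 19 u * g) :=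
  rN ax (by decide +kernel) (by decide) (by decide) (by decide) (by decide) u t g
lemma L_16_14 (u t : K) (g : GL chevD4.Idx K) : x 16 u * (x 14 t * g) = x 14 t * (x 16 u * g) :=
  rN ax (by decide +kernel) (by decide) (by decide) (by decide) (by decide) u t g
lemma L_15_14 (u t : K) (g : GL chevD4.Idx K) : x 15 u * (x 14 t * g) = x 14 t * (x 15 u * g) :=
  rN ax (by decide +kernel) (by decide) (by decide) (by decide) (by decide) u t g
lemma L_21_14 (u t : K) (g : GL chevD4.Idx K) : x 21 u * (x 14 t * g) = x 14 t * (x 21 u * g) :=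
  rN ax (by decide +kernel) (by decide) (by decide) (by decide) (by decide) u t g
lemma L_17_14 (u t : K) (g : GL chevD4.Idx K) : x 17 u * (x 14 t * g) = x 14 t * (x 17 u * g) :=
  rN ax (by decide +kernel) (by decide) (by decide) (by decide) (by decide) u t g
lemma L_20_14 (u t : K) (g : GL chevD4.Idx K) : x 20 u * (x 14 t * g) = x 14 t * (x 20 u * g) :=
  rN ax (by decide +kernel) (by decide) (by decide) (by decide) (by decide) u t g
lemma L_22_14 (u t : K) (g : GL chevD4.Idx K) : x 22 u * (x 14 t * g) = x 14 t * (x 22 u * (x 23 (t * u) * g)) :=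
  rS ax ⟨1, by decide +kernel, by decide +kernel⟩ (by decide) (by decide) (by decide) (by decide) u t g
lemma L_23_14 (u t : K) (g : GL chevD4.Idx K) : x 23 u * (x 14 t * g) = x 14 t * (x 23 u * g) :=
  rN ax (by decide +kernel) (by decide) (by decide) (by decide) (by decide) u t g
lemma L_16_19 (u t : K) (g : GL chevD4.Idx K) : x 16 u * (x 19 t * g) = x 19 t * (x 16 u * g) :=
  rN ax (by decide +kernel) (by decide) (by decide) (by decide) (by decide) u t g
lemma L_15_19 (u t : K) (g : GL chevD4.Idx K) : x 15 u * (x 19 t * g) = x 19 t * (x 15 u * g) :=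
  rN ax (by decide +kernel) (by decide) (by decide) (by decide) (by decide) u t g
lemma L_21_19 (u t : K) (g : GL chevD4.Idx K) : x 21 u * (x 19 t * g) = x 19 t * (x 21 u * g) :=
  rN ax (by decide +kernel) (by decide) (by decide) (by decide) (by decide) u t g
lemma L_17_19 (u t : K) (g : GL chevD4.Idx K) : x 17 u * (x 19 t * g) = x 19 t * (x 17 u * (x 23 (t * u) * g)) :=
  rS ax ⟨-1, by decide +kernel, by decide +kernel⟩ (by decide) (by decide) (by decide) (by decide) u t g
lemma L_20_19 (u t : K) (g : GL chevD4.Idx K) : x 20 u * (x 19 t * g) = x 19 t * (x 20 u * g) :=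
  rN ax (by decide +kernel) (by decide) (by decide) (by decide) (by decide) u t g
lemma L_22_19 (u t : K) (g : GL chevD4.Idx K) : x 22 u * (x 19 t * g) = x 19 t * (x 22 u * g) :=
  rN ax (by decide +kernel) (by decide) (by decide) (by decide) (by decide) u t g
lemma L_23_19 (u t : K) (g : GL chevD4.Idx K) : x 23 u * (x 19 t * g) = x 19 t * (x 23 u * g) :=
  rN ax (by decide +kernel) (by decide) (by decide) (by decide) (by decide) u t g
lemma L_15_16 (u t : K) (g : GL chevD4.Idx K) : x 15 u * (x 16 t * g) = x 16 t * (x 15 u * g) :=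
  rN ax (by decide +kernel) (by decide) (by decide) (by decide) (by decide) u t g
lemma L_21_16 (u t : K) (g : GL chevD4.Idx K) : x 21 u * (x 16 t * g) = x 16 t * (x 21 u * g) :=
  rN ax (by decide +kernel) (by decide) (by decide) (by decide) (by decide) u t g
lemma L_17_16 (u t : K) (g : GL chevD4.Idx K) : x 17 u * (x 16 t * g) = x 16 t * (x 17 u * g) :=
  rN ax (by decide +kernel) (by decide) (by decide) (by decide) (by decide) u t g
lemma L_20_16 (u t : K) (g : GL chevD4.Idx K) : x 20 u * (x 16 t * g) = x 16 t * (x 20 u * (x 23 (t * u) * g)) :=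
  rS ax ⟨-1, by decide +kernel, by decide +kernel⟩ (by decide) (by decide) (by decide) (by decide) u t g
lemma L_22_16 (u t : K) (g : GL chevD4.Idx K) : x 22 u * (x 16 t * g) = x 16 t * (x 22 u * g) :=
  rN ax (by decide +kernel) (by decide) (by decide) (by decide) (by decide) u t g
lemma L_23_16 (u t : K) (g : GL chevD4.Idx K) : x 23 u * (x 16 t * g) = x 16 t * (x 23 u * g) :=
  rN ax (by decide +kernel) (by decide) (by decide) (by decide) (by decide) u t g
lemma L_21_15 (u t : K) (g : GL chevD4.Idx K) : x 21 u * (x 15 t * g) = x 15 t * (x 21 u * (x 23 (t * u) * g)) :=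
  rS ax ⟨-1, by decide +kernel, by decide +kernel⟩ (by decide) (by decide) (by decide) (by decide) u t g
lemma L_17_15 (u t : K) (g : GL chevD4.Idx K) : x 17 u * (x 15 t * g) = x 15 t * (x 17 u * g) :=
  rN ax (by decide +kernel) (by decide) (by decide) (by decide) (by decide) u t g
lemma L_20_15 (u t : K) (g : GL chevD4.Idx K) : x 20 u * (x 15 t * g) = x 15 t * (x 20 u * g) :=
  rN ax (by decide +kernel) (by decide) (by decide) (by decide) (by decide) u t g
lemma L_22_15 (u t : K) (g : GL chevD4.Idx K) : x 22 u * (x 15 t * g) = x 15 t * (x 22 u * g) :=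
  rN ax (by decide +kernel) (by decide) (by decide) (by decide) (by decide) u t g
lemma L_23_15 (u t : K) (g : GL chevD4.Idx K) : x 23 u * (x 15 t * g) = x 15 t * (x 23 u * g) :=
  rN ax (by decide +kernel) (by decide) (by decide) (by decide) (by decide) u t g
lemma L_17_21 (u t : K) (g : GL chevD4.Idx K) : x 17 u * (x 21 t * g) = x 21 t * (x 17 u * g) :=
  rN ax (by decide +kernel) (by decide) (by decide) (by decide) (by decide) u t g
lemma L_20_21 (u t : K) (g : GL chevD4.Idx K) : x 20 u * (x 21 t * g) = x 21 t * (x 20 u * g) :=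
  rN ax (by decide +kernel) (by decide) (by decide) (by decide) (by decide) u t g
lemma L_22_21 (u t : K) (g : GL chevD4.Idx K) : x 22 u * (x 21 t * g) = x 21 t * (x 22 u * g) :=
  rN ax (by decide +kernel) (by decide) (by decide) (by decide) (by decide) u t g
lemma L_23_21 (u t : K) (g : GL chevD4.Idx K) : x 23 u * (x 21 t * g) = x 21 t * (x 23 u * g) :=
  rN ax (by decide +kernel) (by decide) (by decide) (by decide) (by decide) u t g
lemma L_20_17 (u t : K) (g : GL chevD4.Idx K) : x 20 u * (x 17 t * g) = x 17 t * (x 20 u * g) :=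
  rN ax (by decide +kernel) (by decide) (by decide) (by decide) (by decide) u t g
lemma L_22_17 (u t : K) (g : GL chevD4.Idx K) : x 22 u * (x 17 t * g) = x 17 t * (x 22 u * g) :=
  rN ax (by decide +kernel) (by decide) (by decide) (by decide) (by decide) u t g
lemma L_23_17 (u t : K) (g : GL chevD4.Idx K) : x 23 u * (x 17 t * g) = x 17 t * (x 23 u * g) :=
  rN ax (by decide +kernel) (by decide) (by decide) (by decide) (by decide) u t g
lemma L_22_20 (u t : K) (g : GL chevD4.Idx K) : x 22 u * (x 20 t * g) = x 20 t * (x 22 u * g) :=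
  rN ax (by decide +kernel) (by decide) (by decide) (by decide) (by decide) u t g
lemma L_23_20 (u t : K) (g : GL chevD4.Idx K) : x 23 u * (x 20 t * g) = x 20 t * (x 23 u * g) :=
  rN ax (by decide +kernel) (by decide) (by decide) (by decide) (by decide) u t g
lemma L_23_22 (u t : K) (g : GL chevD4.Idx K) : x 23 u * (x 22 t * g) = x 22 t * (x 23 u * g) :=
  rN ax (by decide +kernel) (by decide) (by decide) (by decide) (by decide) u t g

lemma I_13_12 (u t : K) (g : GL chevD4.Idx K) : x 13 u * (x 12 t * g) = x 12 t * (x 13 u * g) :=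
  rN ax (by decide +kernel) (by decide) (by decide) (by decide) (by decide) u t g
lemma I_18_12 (u t : K) (g : GL chevD4.Idx K) : x 18 u * (x 12 t * g) = x 12 t * (x 18 u * g) :=
  rN ax (by decide +kernel) (by decide) (by decide) (by decide) (by decide) u t g
lemma I_18_13 (u t : K) (g : GL chevD4.Idx K) : x 18 u * (x 13 t * g) = x 13 t * (x 18 u * g) :=
  rN ax (by decide +kernel) (by decide) (by decide) (by decide) (by decide) u t g
lemma I_18_14 (u t : K) (g : GL chevD4.Idx K) : x 18 u * (x 14 t * g) = x 14 t * (x 18 u * (x 19 (t * u) * g)) :=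
  rS ax ⟨1, by decide +kernel, by decide +kernel⟩ (by decide) (by decide) (by decide) (by decide) u t g
lemma I_16_15 (u t : K) (g : GL chevD4.Idx K) : x 16 u * (x 15 t * g) = x 15 t * (x 16 u * g) :=
  rN ax (by decide +kernel) (by decide) (by decide) (by decide) (by decide) u t g
lemma I_18_15 (u t : K) (g : GL chevD4.Idx K) : x 18 u * (x 15 t * g) = x 15 t * (x 18 u * (x 20 (t * u) * g)) :=
  rS ax ⟨1, by decide +kernel, by decide +kernel⟩ (by decide) (by decide) (by decide) (by decide) u t g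
lemma I_19_15 (u t : K) (g : GL chevD4.Idx K) : x 19 u * (x 15 t * g) = x 15 t * (x 19 u * g) :=
  rN ax (by decide +kernel) (by decide) (by decide) (by decide) (by decide) u t g
lemma I_18_16 (u t : K) (g : GL chevD4.Idx K) : x 18 u * (x 16 t * g) = x 16 t * (x 18 u * (x 21 (t * u) * g)) :=
  rS ax ⟨1, by decide +kernel, by decide +kernel⟩ (by decide) (by decide) (by decide) (by decide) u t g
lemma I_19_16 (u t : K) (g : GL chevD4.Idx K) : x 19 u * (x 16 t * g) = x 16 t * (x 19 u * g) :=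
  rN ax (by decide +kernel) (by decide) (by decide) (by decide) (by decide) u t g
lemma I_18_17 (u t : K) (g : GL chevD4.Idx K) : x 18 u * (x 17 t * g) = x 17 t * (x 18 u * (x 22 (t * u) * g)) :=
  rS ax ⟨1, by decide +kernel, by decide +kernel⟩ (by decide) (by decide) (by decide) (by decide) u t g
lemma I_19_17 (u t : K) (g : GL chevD4.Idx K) : x 19 u * (x 17 t * g) = x 17 t * (x 19 u * (x 23 (t * u) * g)) :=
  rS ax ⟨1, by decide +kernel, by decide +kernel⟩ (by decide) (by decide) (by decide) (by decide) u t g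
lemma I_21_17 (u t : K) (g : GL chevD4.Idx K) : x 21 u * (x 17 t * g) = x 17 t * (x 21 u * g) :=
  rN ax (by decide +kernel) (by decide) (by decide) (by decide) (by decide) u t g
lemma I_21_20 (u t : K) (g : GL chevD4.Idx K) : x 21 u * (x 20 t * g) = x 20 t * (x 21 u * g) :=
  rN ax (by decide +kernel) (by decide) (by decide) (by decide) (by decide) u t g

/-- Coordinates on the positive part. -/
@[ext] structure Co (K : Type*) where
  (t1 t2 t3 f c1 c2 c3 d1 d2 d3 e g : K)

/-- The product in the order of the levels, with a tail. -/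
noncomputable def NFt (z : Co K) (g : GL chevD4.Idx K) : GL chevD4.Idx K :=
  x 18 (z.t1) * (x 13 (z.t2) * (x 12 (z.t3) * (x 14 (z.f) * (x 19 (z.c1) * (x 16 (z.c2) * (x 15 (z.c3) * (x 21 (z.d1) * (x 17 (z.d2) * (x 20 (z.d3) * (x 22 (z.e) * (x 23 (z.g) * (g))))))))))))

/-- The product in the order of the levels. -/
noncomputable def NF (z : Co K) : GL chevD4.Idx K := NFt ax z 1

/-- The multiplication in coordinates. -/
def mulC (a b : Co K) : Co K where
  t1 := a.t1 + b.t1
  t2 := a.t2 + b.t2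
  t3 := a.t3 + b.t3
  f := a.f + b.f
  c1 := a.c1 + b.c1 + a.f*b.t1
  c2 := a.c2 + b.c2 + a.f*b.t2
  c3 := a.c3 + b.c3 + a.f*b.t3
  d1 := a.d1 + b.d1 + a.c1*b.t2 + a.c2*b.t1 + a.f*b.t1*b.t2
  d2 := a.d2 + b.d2 + a.c2*b.t3 + a.c3*b.t2 + a.f*b.t2*b.t3
  d3 := a.d3 + b.d3 + a.c1*b.t3 + a.c3*b.t1 + a.f*b.t1*b.t3
  e := a.e + b.e + a.d1*b.t3 + a.d2*b.t1 + a.d3*b.t2 + a.c1*b.t2*b.t3 + a.c2*b.t1*b.t3 + a.c3*b.t1*b.t2 + a.f*b.t1*b.t2*b.t3
  g := a.g + b.g + a.d1*b.c3 + a.d2*b.c1 + a.d3*b.c2 + a.e*b.f + a.c1*a.c2*b.t3 + a.c1*a.c3*b.t2 + a.c1*b.c2*b.t3 + a.c1*b.c3*b.t2 + a.c2*a.c3*b.t1 + a.c2*b.c1*b.t3 + a.c2*b.c3*b.t1 + a.c3*b.c1*b.t2 + a.c3*b.c2*b.t1 + a.d1*b.f*b.t3 + a.d2*b.f*b.t1 + a.d3*b.f*b.t2 + a.c1*a.f*b.t2*b.t3 + a.c1*b.f*b.t2*b.t3 + a.c2*a.f*b.t1*b.t3 + a.c2*b.f*b.t1*b.t3 + a.c3*a.f*b.t1*b.t2 + a.c3*b.f*b.t1*b.t2 + a.f*b.c1*b.t2*b.t3 + a.f*b.c2*b.t1*b.t3 + a.f*b.c3*b.t1*b.t2 + a.f*a.f*b.t1*b.t2*b.t3 + a.f*b.f*b.t1*b.t2*b.t3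

lemma congr12 (g : GL chevD4.Idx K) {a0 a1 a2 a3 a4 a5 a6 a7 a8 a9 a10 a11 b0 b1 b2 b3 b4 b5 b6 b7 b8 b9 b10 b11 : K}
    (h0 : a0 = b0) (h1 : a1 = b1) (h2 : a2 = b2) (h3 : a3 = b3) (h4 : a4 = b4) (h5 : a5 = b5) (h6 : a6 = b6) (h7 : a7 = b7) (h8 : a8 = b8) (h9 : a9 = b9) (h10 : a10 = b10) (h11 : a11 = b11) :
    x 18 (a0) * (x 13 (a1) * (x 12 (a2) * (x 14 (a3) * (x 19 (a4) * (x 16 (a5) * (x 15 (a6) * (x 21 (a7) * (x 17 (a8) * (x 20 (a9) * (x 22 (a10) * (x 23 (a11) * (g)))))))))))) =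
      x 18 (b0) * (x 13 (b1) * (x 12 (b2) * (x 14 (b3) * (x 19 (b4) * (x 16 (b5) * (x 15 (b6) * (x 21 (b7) * (x 17 (b8) * (x 20 (b9) * (x 22 (b10) * (x 23 (b11) * (g)))))))))))) := by
  subst_vars; rfl

theorem NFt_NFt (a b : Co K) (g : GL chevD4.Idx K) : NFt ax a (NFt ax b g) = NFt ax (mulC a b) g := by
  simp only [NFt, mulC, m18, m13, m12, m14, m19, m16, m15, m21, m17, m20, m22, m23, L_13_18, L_12_18, L_14_18, L_19_18, L_16_18, L_15_18, L_21_18, L_17_18, L_20_18, L_22_18, L_23_18, L_12_13, L_14_13, L_19_13, L_16_13, L_15_13, L_21_13, L_17_13, L_20_13, L_22_13, L_23_13, L_14_12, L_19_12, L_16_12, L_15_12, L_21_12, L_17_12, L_20_12, L_22_12, L_23_12, L_19_14, L_16_14, L_15_14, L_21_14, L_17_14, L_20_14, L_22_14, L_23_14, L_16_19, L_15_19, L_21_19, L_17_19, L_20_19, L_22_19, L_23_19, L_15_16, L_21_16, L_17_16, L_20_16, L_22_16, L_23_16, L_21_15, L_17_15, L_20_15, L_22_15, L_23_15, L_17_21, L_20_21, L_22_21, L_23_21, L_20_17, L_22_17, L_23_17, L_22_20, L_23_20,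 L_23_22]
  apply congr12 <;> grind

theorem NF_mul (a b : Co K) : NF ax a * NF ax b = NF ax (mulC a b) := by
  have e : ∀ (z : Co K) (g : GL chevD4.Idx K), NFt ax z 1 * g = NFt ax z g := by
    intro z g
    simp only [NFt, mul_assoc, one_mul]
  rw [NF, e, NF, NFt_NFt, NF]

/-- The product in the order of the indices. -/
noncomputable def WW (a12 a13 a14 a15 a16 a17 a18 a19 a20 a21 a22 a23 : K) : GL chevD4.Idx K :=
  wordL ax chevD4.posRoots (fun r => if r = 12 then a12 else if r = 13 then a13 else if r = 14 then a14 else if r = 15 then a15 else if r = 16 then a16 else if r = 17 then a17 else if r = 18 then a18 else if r = 19 then a19 else if r = 20 then a20 else if r = 21 then a21 else if r = 22 then a22 else a23)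

lemma posRoots_D4 : chevD4.posRoots = [12, 13, 14, 15, 16, 17, 18, 19, 20, 21, 22, 23] := by decide +kernel


lemma WW_eq (a12 a13 a14 a15 a16 a17 a18 a19 a20 a21 a22 a23 : K) : WW ax a12 a13 a14 a15 a16 a17 a18 a19 a20 a21 a22 a23 =
    x 12 a12 * (x 13 a13 * (x 14 a14 * (x 15 a15 * (x 16 a16 * (x 17 a17 * (x 18 a18 * (x 19 a19 * (x 20 a20 * (x 21 a21 * (x 22 a22 * (x 23 a23 * (1)))))))))))) := by
  simp [WW, posRoots_D4, wordL_cons, wordL_nil]

theorem WW_inj (hh : Tab chevD4) (hh2 : Tab2 chevD4) {a12 a13 a14 a15 a16 a17 a18 a19 a20 a21 a22 a23 b12 b13 b14 b15 b16 b17 b18 b19 b20 b21 b22 b23 : K}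
    (e : WW ax a12 a13 a14 a15 a16 a17 a18 a19 a20 a21 a22 a23 = WW ax b12 b13 b14 b15 b16 b17 b18 b19 b20 b21 b22 b23) :
    a12 = b12 ∧ a13 = b13 ∧ a14 = b14 ∧ a15 = b15 ∧ a16 = b16 ∧ a17 = b17 ∧ a18 = b18 ∧ a19 = b19 ∧ a20 = b20 ∧ a21 = b21 ∧ a22 = b22 ∧ a23 = b23 := by
  have key := Cfsg.Agent.Lib.Twisted.Fact.wordL_posRoots_inj ax hh hh2 e
  refine ⟨?_, ?_, ?_, ?_, ?_, ?_, ?_, ?_, ?_, ?_, ?_, ?_⟩
  · simpa using key 12 (by decide +kernel)
  · simpa using key 13 (by decide +kernel)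
  · simpa using key 14 (by decide +kernel)
  · simpa using key 15 (by decide +kernel)
  · simpa using key 16 (by decide +kernel)
  · simpa using key 17 (by decide +kernel)
  · simpa using key 18 (by decide +kernel)
  · simpa using key 19 (by decide +kernel)
  · simpa using key 20 (by decide +kernel)
  · simpa using key 21 (by decide +kernel)
  · simpa using key 22 (by decide +kernel)
  · simpa using key 23 (by decide +kernel)

lemma congrIdx {a12 a13 a14 a15 a16 a17 a18 a19 a20 a21 a22 a23 b12 b13 b14 b15 b16 b17 b18 b19 b20 b21 b22 b23 : K} (h12 : a12 = b12) (h13 : a13 = b13) (h14 : a14 = b14) (h15 : a15 = b15) (h16 : a16 = b16) (h17 : a17 = b17) (h18 : a18 = b18) (h19 : a19 = b19) (h20 : a20 = b20) (h21 : a21 = b21) (h22 : a22 = b22) (h23 : a23 = b23) :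
    x 12 a12 * (x 13 a13 * (x 14 a14 * (x 15 a15 * (x 16 a16 * (x 17 a17 * (x 18 a18 * (x 19 a19 * (x 20 a20 * (x 21 a21 * (x 22 a22 * (x 23 a23 * (1)))))))))))) =
      x 12 b12 * (x 13 b13 * (x 14 b14 * (x 15 b15 * (x 16 b16 * (x 17 b17 * (x 18 b18 * (x 19 b19 * (x 20 b20 * (x 21 b21 * (x 22 b22 * (x 23 b23 * (1)))))))))))) := by
  subst_vars; rfl

lemma NF_eq_WW (z : Co K) : NF ax z = WW ax (z.t3) (z.t2) (z.f) (z.c3) (z.c2) (z.d2) (z.t1) (z.c1 + z.f*z.t1) (z.d3 + z.c3*z.t1) (z.d1 + z.c2*z.t1) (z.e + z.d2*z.t1) (z.g + z.c1*z.d2 + z.c2*z.c3*z.t1 + z.d2*z.f*z.t1) := by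
  rw [WW_eq]
  simp only [NF, NFt, I_13_12, L_14_12, L_15_12, L_16_12, L_17_12, I_18_12, L_19_12, L_20_12, L_21_12, L_22_12, L_23_12, L_14_13, L_15_13, L_16_13, L_17_13, I_18_13, L_19_13, L_20_13, L_21_13, L_22_13, L_23_13, L_15_14, L_16_14, L_17_14, I_18_14, L_19_14, L_20_14, L_21_14, L_22_14, L_23_14, I_16_15, L_17_15, I_18_15, I_19_15, L_20_15, L_21_15, L_22_15, L_23_15, L_17_16, I_18_16, I_19_16, L_20_16, L_21_16, L_22_16, L_23_16, I_18_17, I_19_17, L_20_17, I_21_17, L_22_17, L_23_17, L_19_18, L_20_18, L_21_18, L_22_18, L_23_18, L_20_19, L_21_19, L_22_19, L_23_19, I_21_20, L_22_20, L_23_20, L_22_21, L_23_21, L_23_22, m18, m13, m12, m14, m19, m16, m15, m21, m17, m20, m22, m23]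
  refine congrIdx ax ?_ ?_ ?_ ?_ ?_ ?_ ?_ ?_ ?_ ?_ ?_ ?_ <;> grind

end Cfsg.Agent.Lib.InvD4
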